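import Groth.Agent.HopfQuot.PointsSep
import Groth.Agent.HopfQuot.Basic
import Groth.Agent.HopfLib.Kolchin
import Groth.Agent.HopfLib.GITPoints
import Groth.Agent.HopfLib.CotangentDim
import Mathlib.LinearAlgebra.Matrix.Charpoly.Basic
import Mathlib.LinearAlgebra.Charpoly.ToMatrix

/-!
# One-dimensional connected groups are commutative
-/

set_option autoImplicit false
set_option linter.style.haveILetI false

universe u

open TensorProduct WithConv HopfRep
open Groth.Agent.HopfLib Groth.Agent.HopfQuot

noncomputable section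

namespace Groth.Agent.HopfOneDim

variable {k : Type u} [Field k] {A : Type u} [CommRing A] [HopfAlgebra k A]

theorem push_ofId (g : Pt k A k) : push (AlgHom.id k k) g = g := rfl

theorem apply_hit (x y : Pt k A k) (a : A) :
    y.ofConv (hit (V := A) x.ofConv.toLinearMap a) = (y * x).ofConv a := by
  rw [HopfQuot.mul_apply, hit_apply]
  show y.ofConv (sliceR x.ofConv.toLinearMap (CoalgebraStruct.comul (R := k) a)) = _
  induction CoalgebraStruct.comul (R := k) a using TensorProduct.induction_on with
  | zero => simp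
  | add s t hs ht => simp only [map_add, hs, ht]
  | tmul s t => simp [mul_comm]

/-- Points acting by translation on a finite stable space of functions. -/
def actS (S : Submodule k A) (hS : IsSubcomod (k := k) (A := A) S) : Pt k A k →* Module.End k S where
  toFun y := (hit (V := A) y.ofConv.toLinearMap).restrict (fun _ hv => IsSubcomod.hit_mem hS y.ofConv.toLinearMap hv)
  map_one' := LinearMap.ext fun v => Subtype.ext (by
    show hit (V := A) (1 : Pt k A k).ofConv.toLinearMap (v : A) = v
    exact hit_counit (V := A) (v : A))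
  map_mul' y z := LinearMap.ext fun v => Subtype.ext (by
    show hit (V := A) (y * z).ofConv.toLinearMap (v : A) =
      hit (V := A) y.ofConv.toLinearMap (hit (V := A) z.ofConv.toLinearMap (v : A))
    rw [hit_hit]
    rfl)

theorem coe_actS (S : Submodule k A) (hS : IsSubcomod (k := k) (A := A) S) (y : Pt k A k) (v : S) :
    (actS S hS y v : A) = hit (V := A) y.ofConv.toLinearMap (v : A) := rfl

variable [IsAlgClosed k] [Algebra.FiniteType k A] [IsReduced A]

theorem pts_ext {a b : A} (h : ∀ x : Pt k A k, x.ofConv a = x.ofConv b) : a = b := by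
  by_contra hne
  obtain ⟨x, hx⟩ := exists_algHom_ne_zero (k := k) (f := a - b) fun hn => hne (sub_eq_zero.1 hn.eq_zero)
  exact hx (by rw [map_sub, sub_eq_zero]; exact h (toConv x))

/-- Connected reduced groups are integral. -/
theorem isDomain (k : Type u) [Field k] [IsAlgClosed k] {A : Type u} [CommRing A] [HopfAlgebra k A]
    [Algebra.FiniteType k A] [IsReduced A] (hconn : ∀ e : A, IsIdempotentElem e → e = 0 ∨ e = 1) : IsDomain A := by
  classical
  haveI : Nontrivial A := (Bialgebra.counitAlgHom k A).toRingHom.domain_nontrivial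
  haveI : IsNoetherianRing A := Algebra.FiniteType.isNoetherianRing k A
  have hfin := Ideal.finite_minimalPrimes_of_isNoetherianRing A (⊥ : Ideal A)
  have hinf : ∀ f : A, (∀ P ∈ (⊥ : Ideal A).minimalPrimes, f ∈ P) → f = 0 := fun f hf => by
    have h1 : f ∈ sInf (⊥ : Ideal A).minimalPrimes := Ideal.mem_sInf.2 fun {P} hP => hf P hP
    rw [Ideal.sInf_minimalPrimes] at h1
    simpa [Ideal.mem_radical_iff] using h1
  haveI : (RingHom.ker (Bialgebra.counitAlgHom k A)).IsPrime := RingHom.ker_isPrime _
  obtain ⟨P, hP, -⟩ := Ideal.exists_minimalPrimes_le (J := RingHom.ker (Bialgebra.counitAlgHom k A)) (bot_le : (⊥ : Ideal A) ≤ _)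
  let rest := hfin.toFinset.erase P
  have hout : ∀ Q ∈ rest, ∃ f ∈ Q, f ∉ P := fun Q hQ => by
    obtain ⟨hne, hQm⟩ := Finset.mem_erase.1 hQ
    rw [Set.Finite.mem_toFinset] at hQm
    exact SetLike.not_le_iff_exists.1 fun hle => hne (le_antisymm hle (hP.2 ⟨hQm.1.1, bot_le⟩ hle))
  choose! f hfQ hfP using hout
  have hprod : ∏ Q ∈ rest, f Q ∉ P := fun hmem => by
    haveI := hP.1.1
    obtain ⟨Q, hQ, hQ'⟩ := Ideal.IsPrime.prod_mem_iff.1 hmem
    exact hfP Q hQ hQ'
  by_cases hrest : rest = ∅
  · have hP0 : P = ⊥ := eq_bot_iff.2 fun z hz => hinf z fun Q hQ => by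
      by_cases hQP : Q = P
      · rwa [hQP]
      · have hQ' : Q ∈ rest := Finset.mem_erase.2 ⟨hQP, hfin.mem_toFinset.2 hQ⟩
        rw [hrest] at hQ'
        exact absurd hQ' (Finset.notMem_empty _)
    haveI : (⊥ : Ideal A).IsPrime := hP0 ▸ hP.1.1
    exact IsDomain.of_bot_isPrime A
  exfalso
  obtain ⟨g₀, hg₀⟩ := exists_algHom_ne_zero (k := k) (f := ∏ Q ∈ rest, f Q) fun hn => hprod
    (by haveI := hP.1.1; obtain ⟨n, hn'⟩ := hn; exact hP.1.1.mem_of_pow_mem n (hn' ▸ P.zero_mem))
  have huniq : ∀ g : A →ₐ[k] k, ∀ Q ∈ (⊥ : Ideal A).minimalPrimes, ∀ Q' ∈ (⊥ : Ideal A).minimalPrimes,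
      Q ≤ RingHom.ker g → Q' ≤ RingHom.ker g → Q = Q' := by
    intro g Q hQ Q' hQ' h h'
    obtain ⟨τ, hτ⟩ := exists_translate g
    obtain ⟨τ₀, hτ₀⟩ := exists_translate g₀
    let σ : A ≃ₐ[k] A := τ.trans τ₀.symm
    have hσ : RingHom.ker g = Ideal.comap σ.toAlgHom (RingHom.ker g₀) := by
      rw [hτ, hτ₀]
      ext z
      simp [σ]
    have hmove : ∀ R ∈ (⊥ : Ideal A).minimalPrimes, R ≤ RingHom.ker g → Ideal.comap σ.symm.toAlgHom R = P := by
      intro R hR hle
      haveI := hR.1.1
      have hle₀ : Ideal.comap σ.symm.toAlgHom R ≤ RingHom.ker g₀ := fun z hz => by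
        have := hle hz
        rw [hσ] at this
        simpa using this
      obtain ⟨R', hR', hR'le⟩ := Ideal.exists_minimalPrimes_le (bot_le : (⊥ : Ideal A) ≤ Ideal.comap σ.symm.toAlgHom R)
      have hR'P : R' = P := by
        by_contra hne
        refine hg₀ (hle₀ (hR'le ?_))
        have hmem : R' ∈ rest := Finset.mem_erase.2 ⟨hne, hfin.mem_toFinset.2 hR'⟩
        exact Ideal.prod_mem _ hmem (hfQ R' hmem)
      refine le_antisymm ?_ (hR'P ▸ hR'le)
      haveI := hP.1.1
      have h2 : R ≤ Ideal.comap σ.toAlgHom P := hR.2 ⟨inferInstance, bot_le⟩ fun z hz => by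
        have h3 : σ z ∈ Ideal.comap σ.symm.toAlgHom R := hR'le (hR'P.symm ▸ hz)
        simpa using h3
      intro z hz
      have := h2 hz
      simpa using this
    refine Ideal.comap_injective_of_surjective σ.symm.toAlgHom σ.symm.surjective ?_
    rw [hmove Q hQ h, hmove Q' hQ' h']
  have hco : P ⊔ ⨅ Q ∈ rest, Q = ⊤ := by
    by_contra hne
    obtain ⟨g, hg⟩ := exists_algHom_le_ker (k := k) hne
    have hg' : ∀ z ∈ P ⊔ ⨅ Q ∈ rest, Q, z ∈ RingHom.ker g := fun z hz => hg hz
    have hprime : (RingHom.ker g).IsPrime := RingHom.ker_isPrime _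
    obtain ⟨Q, hQ, hQle⟩ := (Ideal.IsPrime.inf_le' hprime).1
      (show rest.inf id ≤ RingHom.ker g by
        rw [Finset.inf_id_eq_sInf, sInf_eq_iInf]
        exact fun z hz => hg' z (Submodule.mem_sup_right (by simpa using hz)))
    obtain ⟨hne', hQm⟩ := Finset.mem_erase.1 hQ
    exact hne' (huniq g Q (hfin.mem_toFinset.1 hQm) P hP hQle fun z hz => hg' z (Submodule.mem_sup_left hz))
  obtain ⟨e, he, e', he', hsum⟩ := Submodule.mem_sup.1 (hco ▸ Submodule.mem_top : (1 : A) ∈ P ⊔ ⨅ Q ∈ rest, Q)
  have hmul : e * e' = 0 := hinf _ fun Q hQ => by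
    by_cases hQP : Q = P
    · rw [hQP]; exact P.mul_mem_right _ he
    · refine Q.mul_mem_left _ ?_
      simp only [Submodule.mem_iInf] at he'
      exact he' Q (Finset.mem_erase.2 ⟨hQP, hfin.mem_toFinset.2 hQ⟩)
  have hidem : IsIdempotentElem e := by
    show e * e = e
    linear_combination e * hsum - hmul
  rcases hconn e hidem with h | h
  · obtain ⟨Q, hQ⟩ := Finset.nonempty_iff_ne_empty.2 hrest
    have h1 : (1 : A) ∈ Q := by
      rw [← hsum, h, zero_add]
      simp only [Submodule.mem_iInf] at he'
      exact he' Q hQ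
    exact (hfin.mem_toFinset.1 (Finset.mem_erase.1 hQ).2).1.1.ne_top ((Ideal.eq_top_iff_one _).2 h1)
  · exact hP.1.1.ne_top ((Ideal.eq_top_iff_one _).2 (h ▸ he))

variable [IsDomain A]

/-- In dimension one an endomorphism of the algebra is injective or a point. -/
theorem injective_or_const (hdim : ringKrullDim A ≤ 1) (c : A →ₐ[k] A) :
    Function.Injective c ∨ ∃ χ : A →ₐ[k] k, ∀ a, c a = algebraMap k A (χ a) := by
  rw [or_iff_not_imp_left, RingHom.injective_iff_ker_eq_bot]
  intro hne
  haveI : Ring.KrullDimLE 1 A := Ring.krullDimLE_iff.2 (by exact_mod_cast hdim)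
  haveI : (RingHom.ker c).IsPrime := RingHom.ker_isPrime _
  haveI hmax : (RingHom.ker c).IsMaximal := Ring.krullDimLE_one_iff_of_noZeroDivisors.1 inferInstance _ hne inferInstance
  obtain ⟨χ, hχ⟩ := exists_algHom_le_ker (k := k) hmax.ne_top
  have hker : RingHom.ker χ = RingHom.ker c :=
    (hmax.eq_of_le (RingHom.ker_ne_top _) fun a ha => hχ ha).symm
  refine ⟨χ, fun a => ?_⟩
  have h : a - algebraMap k A (χ a) ∈ RingHom.ker χ := by
    show χ (a - algebraMap k A (χ a)) = 0
    simp
  rw [hker] at h
  have h' : c (a - algebraMap k A (χ a)) = 0 := h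
  rw [map_sub, AlgHom.commutes, sub_eq_zero] at h'
  exact h'

/-- Conjugation of the universal point. -/
def conjHom (g : Pt k A k) : A →ₐ[k] A :=
  (idPt k A * push (Algebra.ofId k A) g * (idPt k A)⁻¹).ofConv

theorem apply_conjHom (g x : Pt k A k) (a : A) : x.ofConv (conjHom g a) = (x * g * x⁻¹).ofConv a := by
  have h : push x.ofConv (idPt k A * push (Algebra.ofId k A) g * (idPt k A)⁻¹) = x * g * x⁻¹ := by
    rw [map_mul, map_mul, map_inv, push_idPt]
    congr 2
    exact WithConv.ext (AlgHom.ext fun b => x.ofConv.commutes _)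
  rw [← h]
  rfl

theorem charpoly_conj_eq {R : Type u} [CommRing R] {n : Type} [Fintype n] [DecidableEq n] (X Y N : Matrix n n R)
    (_ : X * Y = 1) (h2 : Y * X = 1) : (X * N * Y).charpoly = N.charpoly :=
  by rw [Matrix.charpoly_mul_comm, ← _root_.mul_assoc, h2, _root_.one_mul]

/-- If a point is not central, all points act unipotently. -/
theorem isNilpotent_of_injective (g : Pt k A k) (hinj : Function.Injective (conjHom g))
    (S : Submodule k A) [Module.Finite k S] (hS : IsSubcomod (k := k) (A := A) S) (x : Pt k A k) :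
    IsNilpotent (actS S hS x - 1) := by
  classical
  let T := actS S hS
  have hT1 : T 1 = 1 := map_one _
  let b := Module.finBasis k S
  choose F hF using fun i => LinearMap.exists_extend (b.coord i)
  let M : Matrix (Fin (Module.finrank k S)) (Fin (Module.finrank k S)) A := fun i j => cf (V := A) (F i) (b j : A)
  have hM : ∀ y : Pt k A k, LinearMap.toMatrix b b (T y) = M.map y.ofConv := fun y => by
    ext i j
    rw [LinearMap.toMatrix_apply, Matrix.map_apply]
    show b.coord i (T y (b j)) = y.ofConv (sliceL (F i) (Comod.coact (b j : A)))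
    rw [← hF i]
    show F i (sliceR y.ofConv.toLinearMap (Comod.coact (b j : A))) = _
    induction Comod.coact (k := k) (A := A) (V := A) (b j : A) using TensorProduct.induction_on with
    | zero => simp
    | add s t hs ht => simp only [map_add, hs, ht]
    | tmul s t => simp [mul_comm]
  have hP : ∀ y : Pt k A k, (LinearMap.toMatrix b b (T y)).charpoly = M.charpoly.map y.ofConv.toRingHom := fun y => by
    rw [hM, ← Matrix.charpoly_map]
    rfl
  have hconj : ∀ y, (LinearMap.toMatrix b b (T (y * g * y⁻¹))).charpoly = (LinearMap.toMatrix b b (T g)).charpoly :=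
    fun y => by
    rw [map_mul T, map_mul T, LinearMap.toMatrix_mul, LinearMap.toMatrix_mul]
    refine charpoly_conj_eq _ _ _ ?_ ?_
    · rw [← LinearMap.toMatrix_mul, ← map_mul T, mul_inv_cancel, hT1, LinearMap.toMatrix_one]
    · rw [← LinearMap.toMatrix_mul, ← map_mul T, inv_mul_cancel, hT1, LinearMap.toMatrix_one]
  have hconst : ∀ i, M.charpoly.coeff i = algebraMap k A ((1 : Pt k A k).ofConv (M.charpoly.coeff i)) := fun i => by
    have h1 : M.charpoly.coeff i = algebraMap k A (g.ofConv (M.charpoly.coeff i)) := hinj (pts_ext fun y => by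
      rw [AlgHom.commutes, AlgHom.commutes, apply_conjHom]
      have h2 := congrArg (fun P => Polynomial.coeff P i) ((hP _).symm.trans ((hconj y).trans (hP g)))
      simp only [Polynomial.coeff_map] at h2
      exact h2)
    have h3 := congrArg (1 : Pt k A k).ofConv h1
    rw [AlgHom.commutes] at h3
    exact h1.trans (congrArg _ h3.symm)
  have hchar : (LinearMap.toMatrix b b (T x)).charpoly = (LinearMap.toMatrix b b (T 1)).charpoly := by
    rw [hP, hP]
    refine Polynomial.ext fun i => ?_
    rw [Polynomial.coeff_map, Polynomial.coeff_map, hconst i]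
    simp
  rw [hT1, LinearMap.toMatrix_one, Matrix.charpoly_one, LinearMap.charpoly_toMatrix] at hchar
  refine ⟨Fintype.card (Fin (Module.finrank k S)), ?_⟩
  have h4 := LinearMap.aeval_self_charpoly (T x)
  rw [hchar, map_pow, map_sub, Polynomial.aeval_X, map_one] at h4
  exact h4

/-- One-dimensional connected groups are commutative. -/
theorem commute_pts (hdim : ringKrullDim A = 1) (x g : Pt k A k) : x * g * x⁻¹ = g := by
  classical
  rcases injective_or_const hdim.le (conjHom g) with hinj | ⟨χ, hχ⟩
  swap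
  · have h : ∀ y : Pt k A k, (y * g * y⁻¹).ofConv = χ := fun y => AlgHom.ext fun a => by
      rw [← apply_conjHom, hχ, AlgHom.commutes]; rfl
    have h1 := h 1
    rw [_root_.one_mul, inv_one, _root_.mul_one] at h1
    exact WithConv.ext ((h x).trans h1.symm)
  exfalso
  obtain ⟨a₀, ha₀⟩ : ∃ a : A, ∀ c : k, a ≠ algebraMap k A c := by
    by_contra hcon
    push Not at hcon
    have hsurj : Function.Surjective (algebraMap k A) := fun a => ⟨_, (hcon a).choose_spec.symm⟩
    have := ringKrullDim_le_of_surjective _ hsurj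
    rw [hdim, ringKrullDim_eq_zero_of_field] at this
    exact absurd this (by decide)
  obtain ⟨S, hSfin, hSsub, hS⟩ := exists_finite_subcomod (k := k) (A := A) (V := A) {1, a₀} (Set.toFinite _)
  haveI := hSfin
  let one' : S := ⟨1, hSsub (Set.mem_insert _ _)⟩
  let N : Submodule k S := Submodule.span k {one'}
  let T := actS S hS
  have hone : ∀ y : Pt k A k, T y one' = one' := fun y => Subtype.ext (by
    show hit (V := A) y.ofConv.toLinearMap 1 = 1
    exact pts_ext fun z => by rw [apply_hit, map_one, map_one])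
  have hN : ∀ y, N ≤ N.comap (T y) := fun y => Submodule.span_le.2 (by
    rintro _ rfl
    rw [SetLike.mem_coe, Submodule.mem_comap, hone]
    exact Submodule.mem_span_singleton_self _)
  let Q : Pt k A k →* Module.End k (S ⧸ N) :=
    { toFun := fun y => N.mapQ N (T y) (hN y)
      map_one' := Submodule.linearMap_qext _ (LinearMap.ext fun v => by simp [map_one T])
      map_mul' := fun y z => Submodule.linearMap_qext _ (LinearMap.ext fun v => by simp [map_mul T]) }
  haveI : Nontrivial (S ⧸ N) := Submodule.Quotient.nontrivial_iff.2 fun htop => by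
    have hmem : (⟨a₀, hSsub (Set.mem_insert_of_mem _ rfl)⟩ : S) ∈ N := htop ▸ Submodule.mem_top
    obtain ⟨c, hc⟩ := Submodule.mem_span_singleton.1 hmem
    refine ha₀ c ?_
    rw [← mul_one (algebraMap k A c), ← Algebra.smul_def]
    exact (congrArg Subtype.val hc).symm
  have hQnil : ∀ y, IsNilpotent (Q y - 1) := fun y => by
    obtain ⟨n, hn⟩ := isNilpotent_of_injective g hinj S hS y
    refine ⟨n, Submodule.linearMap_qext _ (LinearMap.ext fun v => ?_)⟩
    have hstep : ∀ (m : ℕ) (w : S), ((Q y - 1) ^ m) (N.mkQ w) = N.mkQ (((T y - 1) ^ m) w) := fun m => by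
      induction m with
      | zero => intro w; simp
      | succ m ih =>
        intro w
        rw [pow_succ, pow_succ, Module.End.mul_apply, Module.End.mul_apply, ← ih]
        congr 1
    rw [LinearMap.comp_apply, hstep]
    show N.mkQ (((T y - 1) ^ n) v) = _
    rw [show (T y - 1) ^ n = 0 from hn]
    simp
  obtain ⟨v, hv, hfix⟩ := exists_fixed_of_unipotent Q hQnil
  obtain ⟨f, rfl⟩ := N.mkQ_surjective v
  have hχ : ∀ y : Pt k A k, ∃ c : k, hit (V := A) y.ofConv.toLinearMap (f : A) = (f : A) + algebraMap k A c := fun y => by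
    have h := hfix y
    have h' : T y f - f ∈ N := by
      rw [← Submodule.Quotient.eq]
      exact h
    obtain ⟨c, hc⟩ := Submodule.mem_span_singleton.1 h'
    refine ⟨c, ?_⟩
    have hc' := congrArg Subtype.val hc
    rw [eq_comm, Submodule.coe_sub, sub_eq_iff_eq_add'] at hc'
    rw [Algebra.algebraMap_eq_smul_one]
    exact hc'
  let ε := fun a : A => (1 : Pt k A k).ofConv a
  have hadd : ∀ y z : Pt k A k, (y * z).ofConv (f : A) = y.ofConv (f : A) + z.ofConv (f : A) - ε f := fun y z => by
    obtain ⟨c, hc⟩ := hχ z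
    have h1 := congrArg y.ofConv hc
    have h2 := congrArg (1 : Pt k A k).ofConv hc
    rw [apply_hit, map_add, AlgHom.commutes] at h1 h2
    rw [_root_.one_mul] at h2
    rw [h1, h2]
    simp only [ε]
    ring
  refine hv ?_
  have hconst : (f : A) = algebraMap k A (g.ofConv (f : A)) := hinj (pts_ext fun y => by
    rw [AlgHom.commutes, AlgHom.commutes, apply_conjHom, hadd, hadd]
    have h := hadd y y⁻¹
    rw [mul_inv_cancel] at h
    simp only [ε] at h ⊢
    simp only [Algebra.algebraMap_self, RingHom.id_apply]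
    linear_combination -h)
  rw [Submodule.mkQ_apply, Submodule.Quotient.mk_eq_zero]
  refine Submodule.mem_span_singleton.2 ⟨g.ofConv (f : A), Subtype.ext ?_⟩
  rw [Submodule.coe_smul, ← Algebra.algebraMap_eq_smul_one]
  exact hconst.symm

/-- Cocommutativity from commutativity of the points. -/
theorem isCocomm_of_pts (h : ∀ x y : Pt k A k, x * y = y * x) : Coalgebra.IsCocomm k A where
  comm_comp_comul := LinearMap.ext fun a => by
    rw [← sub_eq_zero]
    let P : Set (A →ₗ[k] k) := Set.range fun x : Pt k A k => x.ofConv.toLinearMap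
    have hP : ∀ v, (∀ φ ∈ P, φ v = 0) → v = 0 := fun (v : A) hv => pts_ext (k := k) (a := v) (b := 0) fun x => by
      rw [map_zero]; exact hv _ ⟨x, rfl⟩
    refine eq_zero_of_forall_pair hP hP ?_
    rintro _ ⟨x, rfl⟩ _ ⟨y, rfl⟩
    have e : ∀ t : A ⊗[k] A, LinearMap.mul' k k (TensorProduct.map x.ofConv.toLinearMap y.ofConv.toLinearMap t) =
        Algebra.TensorProduct.lift x.ofConv y.ofConv (fun _ _ => .all ..) t ∧
        LinearMap.mul' k k (TensorProduct.map x.ofConv.toLinearMap y.ofConv.toLinearMap (TensorProduct.comm k A A t)) =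
        Algebra.TensorProduct.lift y.ofConv x.ofConv (fun _ _ => .all ..) t := fun t => by
      induction t using TensorProduct.induction_on with
      | zero => simp
      | add s t hs ht => simp only [map_add, hs.1, hs.2, ht.1, ht.2]; exact ⟨trivial, trivial⟩
      | tmul s t => simp [mul_comm]
    rw [map_sub, map_sub, sub_eq_zero, LinearMap.comp_apply]
    erw [(e _).2, (e _).1]
    rw [← HopfQuot.mul_apply, ← HopfQuot.mul_apply, h y x]

/-- Cocommutativity in dimension one. -/
theorem isCocomm_of_dim_one (hdim : ringKrullDim A = 1) : Coalgebra.IsCocomm k A :=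
  isCocomm_of_pts fun x y => by
    have h := commute_pts hdim x y
    rwa [mul_inv_eq_iff_eq_mul] at h

end Groth.Agent.HopfOneDim
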